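import Groth.Agent.QGorEnd.Equidim
import Groth.Agent.DualCore.DevissageHom
import Groth.Agent.MiscGeom.SkDualEquidim
import Mathlib

/-!
Endomorphisms and self-extensions of the dualizing module.
-/

set_option autoImplicit false
universe u

open CategoryTheory CategoryTheory.Limits CategoryTheory.Pretriangulated DerivedCategory
  Groth.DualCore Groth.MiscGeom.QGor

attribute [local instance] HasDerivedCategory.standard

namespace Groth.QGorEnd

variable {A : Type u} [CommRing A]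

/-- `Hom(X, K⟦j⟧) = 0` for a bounded `X` whose cohomology modules have no maps in the relevant degree. -/
theorem subsingleton_hom_of_homology (K : Dual.D A) (j a : ℤ) (X : Dual.D A) (b : ℤ) [IsGE X a] [IsLE X b]
    (h : ∀ i, a ≤ i → i ≤ b → Subsingleton (Dual.inD A (Dual.HD A X i) ⟶ K⟦j + i⟧)) :
    Subsingleton (X ⟶ K⟦j⟧) := by
  suffices ∀ (k : ℕ) (X : Dual.D A) (b : ℤ), b < a + k → IsGE X a → IsLE X b →
      (∀ i, a ≤ i → i ≤ b → Subsingleton (Dual.inD A (Dual.HD A X i) ⟶ K⟦j + i⟧)) →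
      Subsingleton (X ⟶ K⟦j⟧) from
    this (b - a + 1).toNat X b (by lia) ‹_› ‹_› h
  intro k
  induction k with
  | zero =>
    intro X b hb _ _ _
    exact ⟨fun u v => (isZero_of_isGE_of_isLE X a b (by simpa using hb)).eq_of_src _ _⟩
  | succ k ih =>
    intro X b hb hge hle h
    rcases lt_or_ge b a with hlt | hab
    · exact ⟨fun u v => (isZero_of_isGE_of_isLE X a b hlt).eq_of_src _ _⟩
    obtain ⟨T, hT, h1, ⟨e₂⟩, e₁, ⟨e₃⟩⟩ := exists_top_triangle X b (b - 1) (by lia)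
    haveI : IsGE T.obj₁ a := by
      rw [isGE_iff]
      intro i hi
      exact (isZero_of_isGE X a i hi).of_iso (e₁ i (by lia)).some
    haveI : Subsingleton (T.obj₁ ⟶ K⟦j⟧) := ih _ (b - 1) (by lia) inferInstance h1 fun i hai hib => by
      haveI := h i hai (by lia)
      exact subsingleton_hom_of_iso ((singleFunctor (ModuleCat.{u} A) 0).mapIso (e₁ i hib).some.symm) _
    haveI : Subsingleton (T.obj₃ ⟶ K⟦j⟧) := by
      haveI := h b hab le_rfl
      haveI := subsingleton_hom_single (Dual.HD A X b) K b j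
      exact subsingleton_hom_of_iso e₃.symm _
    haveI := subsingleton_hom_of_triangle T hT K j
    exact subsingleton_hom_of_iso e₂ _

/-- Shifting a vanishing. -/
theorem subsingleton_hom_shift_neg (C K : Dual.D A) (j l : ℤ) (hl : j + 1 = l) [Subsingleton (C ⟶ K⟦l⟧)] :
    Subsingleton (C⟦(-1 : ℤ)⟧ ⟶ K⟦j⟧) := by
  refine ⟨fun u v => (shiftFunctor (Dual.D A) (1 : ℤ)).map_injective ?_⟩
  rw [← cancel_epi ((shiftFunctorCompIsoId (Dual.D A) (-1 : ℤ) 1 (by norm_num)).inv.app C),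
    ← cancel_mono ((shiftFunctorAdd' (Dual.D A) j 1 l hl).inv.app K)]
  exact Subsingleton.elim (α := C ⟶ K⟦l⟧) _ _

/-- Splitting off the bottom cohomology. -/
theorem exists_bottom_triangle (X : Dual.D A) (m q b : ℤ) (h : m + 1 = q) (hqb : m ≤ b) [IsGE X m] [IsLE X b] :
    ∃ T : Triangle (Dual.D A), T ∈ distTriang (Dual.D A) ∧ T.obj₂ = X ∧
      IsGE T.obj₁ m ∧ IsLE T.obj₁ m ∧ IsGE T.obj₃ q ∧ IsLE T.obj₃ b ∧
      Nonempty (T.obj₁ ≅ (singleFunctor (ModuleCat.{u} A) m).obj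
        ((homologyFunctor (ModuleCat.{u} A) m).obj X)) ∧
      ∀ i, q ≤ i → Nonempty ((homologyFunctor (ModuleCat.{u} A) i).obj X ≅
        (homologyFunctor (ModuleCat.{u} A) i).obj T.obj₃) := by
  let t := (TStructure.t : Triangulated.TStructure (Dual.D A))
  let T := (t.triangleLEGE m q h).obj X
  have hT : T ∈ distTriang (Dual.D A) := t.triangleLEGE_distinguished m q h X
  haveI h1 : IsLE T.obj₁ m := inferInstanceAs (t.IsLE ((t.truncLE m).obj X) m)
  haveI h3 : IsGE T.obj₃ q := inferInstanceAs (t.IsGE ((t.truncGE q).obj X) q)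
  have e1 : ∀ i ≤ m, Nonempty ((homologyFunctor (ModuleCat.{u} A) i).obj T.obj₁ ≅
      (homologyFunctor (ModuleCat.{u} A) i).obj X) := fun i hi => by
    haveI : Mono ((homologyFunctor (ModuleCat.{u} A) i).map T.mor₁) :=
      (HomologySequence.mono_homologyMap_mor₁_iff T hT (i - 1) i (by lia)).2
        ((isZero_of_isGE T.obj₃ q (i - 1) (by lia)).eq_of_src _ _)
    haveI : Epi ((homologyFunctor (ModuleCat.{u} A) i).map T.mor₁) :=
      (HomologySequence.epi_homologyMap_mor₁_iff T hT i).2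
        ((isZero_of_isGE T.obj₃ q i (by lia)).eq_of_tgt _ _)
    haveI := isIso_of_mono_of_epi ((homologyFunctor (ModuleCat.{u} A) i).map T.mor₁)
    exact ⟨@asIso _ _ _ _ ((homologyFunctor (ModuleCat.{u} A) i).map T.mor₁) this⟩
  have e3 : ∀ i, q ≤ i → Nonempty ((homologyFunctor (ModuleCat.{u} A) i).obj X ≅
      (homologyFunctor (ModuleCat.{u} A) i).obj T.obj₃) := fun i hi => by
    haveI : Mono ((homologyFunctor (ModuleCat.{u} A) i).map T.mor₂) :=
      (HomologySequence.mono_homologyMap_mor₂_iff T hT i).2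
        ((isZero_of_isLE T.obj₁ m i (by lia)).eq_of_src _ _)
    haveI : Epi ((homologyFunctor (ModuleCat.{u} A) i).map T.mor₂) :=
      (HomologySequence.epi_homologyMap_mor₂_iff T hT i (i + 1) rfl).2
        ((isZero_of_isLE T.obj₁ m (i + 1) (by lia)).eq_of_tgt _ _)
    haveI := isIso_of_mono_of_epi ((homologyFunctor (ModuleCat.{u} A) i).map T.mor₂)
    exact ⟨@asIso _ _ _ _ ((homologyFunctor (ModuleCat.{u} A) i).map T.mor₂) this⟩
  haveI h1' : IsGE T.obj₁ m := by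
    rw [isGE_iff]
    intro i hi
    exact (isZero_of_isGE X m i hi).of_iso (e1 i hi.le).some
  obtain ⟨Y, ⟨e⟩⟩ := exists_iso_singleFunctor_obj_of_isGE_of_isLE T.obj₁ m
  refine ⟨T, hT, rfl, h1', h1, h3, ?_, ⟨e ≪≫ (singleFunctor _ m).mapIso
      (((singleFunctorCompHomologyFunctorIso _ m).app Y).symm ≪≫
        (homologyFunctor _ m).mapIso e.symm ≪≫ (e1 m le_rfl).some)⟩, e3⟩
  rw [isLE_iff]
  intro i hi
  exact (isZero_of_isLE X b i hi).of_iso (e3 i (by lia)).some.symm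

/-- Endomorphisms of the bottom piece come from those of the whole. -/
theorem bijective_smul_id_obj₁ (T : Triangle (Dual.D A)) (hT : T ∈ distTriang (Dual.D A))
    (hX : Function.Bijective (fun a : A => a • 𝟙 T.obj₂))
    [Subsingleton (T.obj₃ ⟶ T.obj₂)] [Subsingleton (T.obj₃⟦(-1 : ℤ)⟧ ⟶ T.obj₂)]
    [Subsingleton (T.obj₁ ⟶ T.obj₃⟦(-1 : ℤ)⟧)] :
    Function.Bijective (fun a : A => a • 𝟙 T.obj₁) := by
  refine ⟨(injective_iff_map_eq_zero
    ({ toFun := fun a => a • 𝟙 T.obj₁, map_zero' := zero_smul _ _, map_add' := fun a b => add_smul a b _ } :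
      A →+ (T.obj₁ ⟶ T.obj₁))).2 fun a ha => ?_, fun f => ?_⟩
  · have ha' : a • 𝟙 T.obj₁ = 0 := ha
    have h : T.mor₁ ≫ (a • 𝟙 T.obj₂) = 0 := by
      rw [Linear.comp_smul, Category.comp_id, ← Category.id_comp T.mor₁, ← Linear.smul_comp, ha', zero_comp]
    obtain ⟨g, hg⟩ := T.yoneda_exact₂ hT _ h
    rw [Subsingleton.elim g 0, comp_zero] at hg
    exact hX.1 (hg.trans (zero_smul A (𝟙 T.obj₂)).symm)
  · obtain ⟨g, hg⟩ := T.invRotate.yoneda_exact₂ (inv_rot_of_distTriang _ hT) (f ≫ T.mor₁)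
      (Subsingleton.elim (α := T.obj₃⟦(-1 : ℤ)⟧ ⟶ T.obj₂) _ _)
    obtain ⟨a, ha⟩ := hX.2 g
    refine ⟨a, sub_eq_zero.1 ?_⟩
    have h : (a • 𝟙 T.obj₁ - f) ≫ T.mor₁ = 0 := by
      rw [Preadditive.sub_comp, sub_eq_zero, Linear.smul_comp, Category.id_comp]
      refine Eq.trans ?_ hg.symm
      show a • T.mor₁ = T.mor₁ ≫ g
      rw [← ha, Linear.comp_smul, Category.comp_id]
    obtain ⟨k, hk⟩ := T.invRotate.coyoneda_exact₂ (inv_rot_of_distTriang _ hT) (a • 𝟙 T.obj₁ - f) h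
    rw [Subsingleton.elim (α := T.obj₁ ⟶ T.obj₃⟦(-1 : ℤ)⟧) k 0] at hk
    exact hk.trans zero_comp

/-- Self-extensions of the bottom piece. -/
theorem subsingleton_ext_obj₁ (T : Triangle (Dual.D A)) (hT : T ∈ distTriang (Dual.D A))
    [Subsingleton (T.obj₂ ⟶ T.obj₂⟦(1 : ℤ)⟧)] [Subsingleton (T.obj₃⟦(-1 : ℤ)⟧ ⟶ T.obj₂⟦(1 : ℤ)⟧)]
    [Subsingleton (T.obj₁ ⟶ T.obj₃)] : Subsingleton (T.obj₁ ⟶ T.obj₁⟦(1 : ℤ)⟧) := by
  refine subsingleton_of_forall_eq 0 fun f => ?_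
  obtain ⟨g, hg⟩ := T.invRotate.yoneda_exact₂ (inv_rot_of_distTriang _ hT) (f ≫ T.mor₁⟦(1 : ℤ)⟧')
    (Subsingleton.elim (α := T.obj₃⟦(-1 : ℤ)⟧ ⟶ T.obj₂⟦(1 : ℤ)⟧) _ _)
  rw [Subsingleton.elim (α := T.obj₂ ⟶ T.obj₂⟦(1 : ℤ)⟧) g 0] at hg
  obtain ⟨k, rfl⟩ := T.coyoneda_exact₁ hT f (hg.trans comp_zero)
  rw [Subsingleton.elim k 0, zero_comp]

variable [IsNoetherianRing A] [IsLocalRing A]

/-- The cohomology below the top admits no maps into low shifts of the dualizing complex. -/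
theorem subsingleton_hom_HD {ω : Dual.D A} (hω : Dual.IsDualizing A ω) (hn : Dual.IsNormalized A ω)
    (n : ℕ) (hd : ringKrullDim A = n) (hS2 : LocCoh.HasSk 2 A A) (k : ℕ) (hS : LocCoh.HasSk k A A)
    (i j : ℤ) (hi : i ≠ -(n : ℤ)) (hj : j < k) :
    Subsingleton (Dual.inD A (Dual.HD A ω i) ⟶ ω⟦j + i⟧) := by
  have hEq := isEquidim_of_hasSk_two hω hn n hd hS2
  have hmin : ∀ P ∈ (Module.annihilator A A).minimalPrimes, ringKrullDim (A ⧸ P) = (n : WithBot ℕ∞) :=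
    fun P hP => by
      rw [Module.annihilator_eq_bot.2 inferInstance] at hP
      exact (hEq P hP).trans hd
  haveI : Module.Finite A (Dual.HD A ω i) := hω.finite_cohomology i
  obtain ⟨h1, h2⟩ := (hasSk_iff_supportDim hω A (max_degree_zero hω hn) n hmin k).1 hS i hi
  by_cases hneg : -i - (k : ℤ) < 0
  · haveI := h1 hneg
    haveI : Subsingleton (Dual.HD A ω i) := (homAEquiv ω i).symm.toEquiv.subsingleton
    exact subsingleton_hom_of_subsingleton ω _ (j + i)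
  · have h3 := h2 (by lia)
    rw [Module.supportDim_eq_of_equiv (homAEquiv ω i)] at h3
    exact hom_le_ringKrullDim hω hn _ h3 _ (Or.inl (by lia))

theorem isGE_dim {ω : Dual.D A} (hω : Dual.IsDualizing A ω) (hn : Dual.IsNormalized A ω)
    (n : ℕ) (hd : ringKrullDim A = n) : IsGE ω (-(n : ℤ)) := by
  refine isGE_of_HD ω _ fun i hi => ?_
  haveI := hom_le_ringKrullDim hω hn A (d := n)
    (by rw [Module.supportDim_self_eq_ringKrullDim, hd]) i (Or.inl hi)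
  exact (homAEquiv ω i).symm.toEquiv.subsingleton

theorem isLE_zero {ω : Dual.D A} (hω : Dual.IsDualizing A ω) (hn : Dual.IsNormalized A ω)
    (n : ℕ) (hd : ringKrullDim A = n) : IsLE ω 0 := by
  rw [isLE_iff]
  intro i hi
  haveI := hom_le_ringKrullDim hω hn A (d := n)
    (by rw [Module.supportDim_self_eq_ringKrullDim, hd]) i (Or.inr hi)
  exact ModuleCat.isZero_iff_subsingleton.2 (homAEquiv ω i).symm.toEquiv.subsingleton

omit [IsNoetherianRing A] [IsLocalRing A] in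
theorem subsingleton_hom_of_le_of_ge (X Y : Dual.D A) (a b : ℤ) (h : a < b) [IsLE X a] [IsGE Y b] :
    Subsingleton (X ⟶ Y) :=
  subsingleton_of_forall_eq 0 fun f => TStructure.t.zero f a b h

variable {ω : Dual.D A} (hω : Dual.IsDualizing A ω) (hn : Dual.IsNormalized A ω)
  (n : ℕ) (hd : ringKrullDim A = n)

include hω hn hd

/-- `End(H^{-n} ω) = A` under `(S₂)`. -/
theorem toEnd_bijective_of_hasSk_two (hS : LocCoh.HasSk 2 A A) :
    Function.Bijective (fun r : A => r • (LinearMap.id :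
      Dual.HD A ω (-(n : ℤ)) →ₗ[A] Dual.HD A ω (-(n : ℤ)))) := by
  haveI := isGE_dim hω hn n hd
  haveI := isLE_zero hω hn n hd
  obtain ⟨T, hT, hX, hge, hle, hge3, hle3, ⟨e⟩, e3⟩ :=
    exists_bottom_triangle ω (-(n : ℤ)) (-(n : ℤ) + 1) 0 rfl (by lia)
  have hC : ∀ j : ℤ, j < 2 → Subsingleton (T.obj₃ ⟶ ω⟦j⟧) := fun j hj =>
    subsingleton_hom_of_homology ω j (-(n : ℤ) + 1) T.obj₃ 0 fun i hi _ => by
      haveI := subsingleton_hom_HD hω hn n hd hS 2 hS i j (by lia) (by exact_mod_cast hj)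
      exact subsingleton_hom_of_iso ((singleFunctor (ModuleCat.{u} A) 0).mapIso (e3 i hi).some) _
  subst hX
  haveI : Subsingleton (T.obj₃ ⟶ T.obj₂) := by
    haveI := hC 0 (by norm_num)
    exact ⟨fun u v => by
      rw [← cancel_mono ((shiftFunctorZero (Dual.D A) ℤ).inv.app T.obj₂)]; exact Subsingleton.elim _ _⟩
  haveI : Subsingleton (T.obj₃⟦(-1 : ℤ)⟧ ⟶ T.obj₂) := by
    haveI := hC 1 (by norm_num)
    haveI := subsingleton_hom_shift_neg T.obj₃ T.obj₂ 0 1 (by norm_num)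
    exact ⟨fun u v => by
      rw [← cancel_mono ((shiftFunctorZero (Dual.D A) ℤ).inv.app T.obj₂)]; exact Subsingleton.elim _ _⟩
  haveI : IsGE (T.obj₃⟦(-1 : ℤ)⟧) (-(n : ℤ) + 2) :=
    TStructure.t.isGE_shift T.obj₃ (-(n : ℤ) + 1) (-1) (-(n : ℤ) + 2)
  haveI : Subsingleton (T.obj₁ ⟶ T.obj₃⟦(-1 : ℤ)⟧) :=
    subsingleton_hom_of_le_of_ge _ _ (-(n : ℤ)) (-(n : ℤ) + 2) (by lia)
  obtain ⟨hinj, hsurj⟩ := bijective_smul_id_obj₁ T hT hω.toEnd_bijective
  let Kc := (homologyFunctor (ModuleCat.{u} A) (-(n : ℤ))).obj T.obj₂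
  let F := singleFunctor (ModuleCat.{u} A) (-(n : ℤ))
  have key : ∀ a : A, (F.map (ModuleCat.ofHom (a • (LinearMap.id : Kc →ₗ[A] Kc)))) =
      e.inv ≫ (a • 𝟙 T.obj₁) ≫ e.hom := fun a => by
    rw [Linear.smul_comp, Category.id_comp, Linear.comp_smul, Iso.inv_hom_id,
      show ModuleCat.ofHom (a • (LinearMap.id : Kc →ₗ[A] Kc)) = a • 𝟙 Kc from rfl, F.map_smul, F.map_id]
  refine ⟨fun a b hab => hinj ?_, fun φ => ?_⟩
  · have h : a • (LinearMap.id : Kc →ₗ[A] Kc) = b • LinearMap.id := hab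
    have h1 := key a
    rw [h, key b, cancel_epi, cancel_mono] at h1
    exact h1.symm
  · obtain ⟨a, ha⟩ := hsurj (e.hom ≫ F.map (ModuleCat.ofHom φ) ≫ e.inv)
    refine ⟨a, ?_⟩
    have h1 := key a
    rw [show a • 𝟙 T.obj₁ = _ from ha, Category.assoc, Category.assoc, Iso.inv_hom_id,
      Category.comp_id, Iso.inv_hom_id_assoc] at h1
    exact congrArg ModuleCat.Hom.hom (F.map_injective h1)

/-- `Ext¹(H^{-n} ω, H^{-n} ω) = 0` under `(S₃)`. -/
theorem subsingleton_ext_of_hasSk_three (hS2 : LocCoh.HasSk 2 A A) (hS : LocCoh.HasSk 3 A A) :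
    Subsingleton (Dual.inD A (Dual.HD A ω (-(n : ℤ))) ⟶
      (Dual.inD A (Dual.HD A ω (-(n : ℤ))))⟦(1 : ℤ)⟧) := by
  haveI := isGE_dim hω hn n hd
  haveI := isLE_zero hω hn n hd
  obtain ⟨T, hT, hX, hge, hle, hge3, hle3, ⟨e⟩, e3⟩ :=
    exists_bottom_triangle ω (-(n : ℤ)) (-(n : ℤ) + 1) 0 rfl (by lia)
  haveI hC : Subsingleton (T.obj₃ ⟶ ω⟦(2 : ℤ)⟧) :=
    subsingleton_hom_of_homology ω 2 (-(n : ℤ) + 1) T.obj₃ 0 fun i hi _ => by
      haveI := subsingleton_hom_HD hω hn n hd hS2 3 hS i 2 (by lia) (by norm_num)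
      exact subsingleton_hom_of_iso ((singleFunctor (ModuleCat.{u} A) 0).mapIso (e3 i hi).some) _
  subst hX
  haveI := subsingleton_hom_shift_neg T.obj₃ T.obj₂ 1 2 (by norm_num)
  haveI := hω.ext_self_subsingleton 1 one_ne_zero
  haveI : Subsingleton (T.obj₁ ⟶ T.obj₃) :=
    subsingleton_hom_of_le_of_ge _ _ (-(n : ℤ)) (-(n : ℤ) + 1) (by lia)
  haveI := subsingleton_ext_obj₁ T hT
  let K := Dual.HD A T.obj₂ (-(n : ℤ))
  let e' : T.obj₁⟦-(n : ℤ)⟧ ≅ Dual.inD A K :=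
    (shiftFunctor (Dual.D A) (-(n : ℤ))).mapIso e ≪≫ singleShiftIso K (-(n : ℤ))
  refine subsingleton_of_forall_eq 0 fun u => ?_
  obtain ⟨v, hv⟩ := (shiftFunctor (Dual.D A) (-(n : ℤ))).map_surjective
    (e'.hom ≫ u ≫ e'.inv⟦(1 : ℤ)⟧' ≫ (shiftComm T.obj₁ (-(n : ℤ)) 1).hom)
  rw [Subsingleton.elim v 0, Functor.map_zero] at hv
  rw [← cancel_epi e'.hom, ← cancel_mono (e'.inv⟦(1 : ℤ)⟧' ≫ (shiftComm T.obj₁ (-(n : ℤ)) 1).hom),
    Category.assoc, ← hv, comp_zero, zero_comp]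

end Groth.QGorEnd
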