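import Groth.Agent.MiscGeom.OrdinaryDual
import Groth.Agent.LocCohBase.Connected
import Mathlib

/-!
A local ring with a dualizing complex satisfying `(S₂)` is equidimensional.
-/

set_option autoImplicit false
universe u

open CategoryTheory IsLocalRing Groth.DualCore Groth.MiscGeom.QGor

attribute [local instance] HasDerivedCategory.standard

namespace Groth.QGorEnd

variable {A : Type u} [CommRing A] [IsNoetherianRing A] [IsLocalRing A]

/-- Two minimal primes below a height one prime have the same coheight. -/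
theorem coheight_eq_of_covBy {ω : Dual.D A} (hω : Dual.IsDualizing A ω) (hn : Dual.IsNormalized A ω)
    (P Q p : PrimeSpectrum A) (hP : P ⋖ p) (hQ : Q ⋖ p) : Order.coheight P = Order.coheight Q := by
  obtain ⟨a, ha⟩ := exists_coheight_eq hω P
  obtain ⟨b, hb⟩ := exists_coheight_eq hω Q
  have h := (degree_covBy hω P p hP).trans (degree_covBy hω Q p hQ).symm
  rw [degree_eq_neg_coheight hω (max_degree_zero hω hn) a P ha,
    degree_eq_neg_coheight hω (max_degree_zero hω hn) b Q hb, neg_inj, Nat.cast_inj] at h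
  rw [ha, hb, h]

/-- A local `(S₂)` ring in which primes covering a common prime have equal coheights is equidimensional. -/
theorem isEquidim_of_hasSk_two_of_covBy
    (hcovEq : ∀ P Q p : PrimeSpectrum A, P ⋖ p → Q ⋖ p → Order.coheight P = Order.coheight Q)
    (n : ℕ) (hd : ringKrullDim A = n) (hS : LocCoh.HasSk 2 A A) : EGA4.IsEquidim A := by
  classical
  let T := (minimalPrimes.finite_of_isNoetherianRing A).toFinset
  have hT : ∀ P, P ∈ T ↔ P ∈ minimalPrimes A := fun P => Set.Finite.mem_toFinset _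
  let Top : Ideal A → Prop := fun P => ∀ hP : P.IsPrime, Order.coheight (⟨P, hP⟩ : PrimeSpectrum A) = n
  suffices hall : ∀ P ∈ minimalPrimes A, Top P by
    intro P hP
    have : P.IsPrime := hP.1.1
    rw [hd, ringKrullDim_quotient_eq_coheight ⟨P, this⟩, hall P hP this]
    rfl
  by_contra hcon
  push Not at hcon
  obtain ⟨Q₀, hQ₀, hQ₀'⟩ := hcon
  obtain ⟨l, hl⟩ := Order.le_krullDim_iff.1 hd.ge
  obtain ⟨P₀, hP₀, hle⟩ := Ideal.exists_minimalPrimes_le (bot_le : (⊥ : Ideal A) ≤ l.head.asIdeal)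
  have hP₀' : Top P₀ := fun hP => le_antisymm
    (WithBot.coe_le_coe.1 ((Order.coheight_le_krullDim _).trans hd.le))
    (hl ▸ (Order.length_le_coheight le_rfl).trans (Order.coheight_anti (show (⟨P₀, hP⟩ : PrimeSpectrum A) ≤ l.head from hle)))
  let IA : Ideal A := (T.filter Top).inf id
  let IB : Ideal A := (T.filter fun P => ¬ Top P).inf id
  have hIA : IA ≤ maximalIdeal A :=
    (Finset.inf_le (f := id) (Finset.mem_filter.2 ⟨(hT P₀).2 hP₀, hP₀'⟩)).trans
      (IsLocalRing.le_maximalIdeal hP₀.1.1.ne_top)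
  have hIB : IB ≤ maximalIdeal A :=
    (Finset.inf_le (f := id) (Finset.mem_filter.2 ⟨(hT Q₀).2 hQ₀, hQ₀'⟩)).trans
      (IsLocalRing.le_maximalIdeal hQ₀.1.1.ne_top)
  obtain ⟨p, hp, -⟩ := Ideal.exists_minimalPrimes_le (sup_le hIA hIB)
  have hpp : p.IsPrime := hp.1.1
  obtain ⟨P, hPmem, hPp⟩ := (Ideal.IsPrime.inf_le' hpp).1 (le_sup_left.trans hp.1.2 : IA ≤ p)
  obtain ⟨Q, hQmem, hQp⟩ := (Ideal.IsPrime.inf_le' hpp).1 (le_sup_right.trans hp.1.2 : IB ≤ p)
  rw [Finset.mem_filter, hT] at hPmem hQmem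
  obtain ⟨hP, hPt⟩ := hPmem
  obtain ⟨hQ, hQt⟩ := hQmem
  simp only [id] at hPp hQp
  have hPne : P ≠ p := fun e => hQt (by
    have h1 : Q ≤ P := e ▸ hQp
    have h2 : Q = P := le_antisymm h1 (hP.2 ⟨hQ.1.1, bot_le⟩ h1)
    exact h2 ▸ hPt)
  have hQne : Q ≠ p := fun e => hQt (by
    have h1 : P ≤ Q := e ▸ hPp
    have h2 : P = Q := le_antisymm h1 (hQ.2 ⟨hP.1.1, bot_le⟩ h1)
    exact h2 ▸ hPt)
  let ps : PrimeSpectrum A := ⟨p, hpp⟩
  let B := Localization.AtPrime p
  haveI : IsNoetherianRing B := IsLocalization.isNoetherianRing p.primeCompl _ inferInstance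
  by_cases h2 : 2 ≤ p.height
  · let eB : LocalizedModule p.primeCompl A ≃ₗ[B] B :=
      LinearEquiv.extendScalarsOfIsLocalization p.primeCompl B
        (IsLocalizedModule.iso p.primeCompl (Algebra.linearMap A B))
    have hdep : 2 ≤ LocCoh.depth B B := by
      have h := hS p
      rw [Module.supportDim_eq_of_equiv eB, Module.supportDim_self_eq_ringKrullDim,
        IsLocalization.AtPrime.ringKrullDim_eq_height p B, Groth.DualCore.depth_congr eB] at h
      refine WithBot.coe_le_coe.1 (le_trans (le_min le_rfl ?_) h)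
      exact WithBot.coe_le_coe.2 h2
    have hcomap : ∀ R : Ideal A, R.IsPrime → R ≤ p →
        (R.map (algebraMap A B)).IsPrime ∧ (R.map (algebraMap A B)).comap (algebraMap A B) = R := by
      intro R hR hRp
      have hdis : Disjoint (p.primeCompl : Set A) R := Set.disjoint_left.2 fun x hx hx' => hx (hRp hx')
      exact ⟨IsLocalization.isPrime_of_isPrime_disjoint p.primeCompl B R hR hdis,
        IsLocalization.comap_map_of_isPrime_disjoint p.primeCompl B hR hdis⟩
    have hne : ∀ R : Ideal A, R.IsPrime → R ≤ p → R ≠ p →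
        R.map (algebraMap A B) ≠ maximalIdeal B := by
      intro R hR hRp hne e
      have := (hcomap R hR hRp).2
      rw [e] at this
      exact hne (this.symm.trans (IsLocalization.AtPrime.comap_maximalIdeal B p))
    refine Groth.LocCohBase.false_of_zeroLocus hdep (I := IA.map (algebraMap A B))
      (J := IB.map (algebraMap A B)) (fun q hq => ?_) (fun q hq hIq hJq => ?_)
      (hcomap P hP.1.1 hPp).1 (hcomap Q hQ.1.1 hQp).1
      (Ideal.map_mono (Finset.inf_le (f := id) (Finset.mem_filter.2 ⟨(hT P).2 hP, hPt⟩)))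
      (Ideal.map_mono (Finset.inf_le (f := id) (Finset.mem_filter.2 ⟨(hT Q).2 hQ, hQt⟩)))
      (hne P hP.1.1 hPp hPne) (hne Q hQ.1.1 hQp hQne)
    · obtain ⟨R, hR, hRq⟩ := Ideal.exists_minimalPrimes_le
        (bot_le : (⊥ : Ideal A) ≤ q.comap (algebraMap A B))
      rw [← Ideal.map_mul, Ideal.map_le_iff_le_comap]
      refine le_trans ?_ hRq
      by_cases hRt : Top R
      · exact Ideal.mul_le_left.trans (Finset.inf_le (f := id) (Finset.mem_filter.2 ⟨(hT R).2 hR, hRt⟩))
      · exact Ideal.mul_le_right.trans (Finset.inf_le (f := id) (Finset.mem_filter.2 ⟨(hT R).2 hR, hRt⟩))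
    · have h1 : q.comap (algebraMap A B) ≤ p :=
        (Ideal.comap_mono (IsLocalRing.le_maximalIdeal hq.ne_top)).trans
          (IsLocalization.AtPrime.comap_maximalIdeal B p).le
      have h2 := hp.2 ⟨Ideal.IsPrime.comap _, sup_le (Ideal.map_le_iff_le_comap.1 hIq)
        (Ideal.map_le_iff_le_comap.1 hJq)⟩ h1
      exact (IsLocalization.map_comap p.primeCompl B q).symm.trans
        ((congrArg (Ideal.map (algebraMap A B)) (le_antisymm h1 h2)).trans Localization.AtPrime.map_eq_maximalIdeal)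
  · have hcov : ∀ R : PrimeSpectrum A, R.asIdeal ≤ p → R.asIdeal ≠ p → R ⋖ ps := by
      intro R hR hne
      refine ⟨lt_of_le_of_ne hR fun e => hne (congrArg PrimeSpectrum.asIdeal e), fun S hRS hSp => h2 ?_⟩
      have hfin : Order.height S < ⊤ := by
        rw [← PrimeSpectrum.height_eq_orderHeight]
        exact Ideal.height_lt_top S.2.ne_top
      have h1 : Order.height R < Order.height S := Order.height_strictMono hRS
        (lt_of_le_of_lt (Order.height_mono hRS.le) hfin)
      have h1' : (1 : ℕ∞) ≤ Order.height S := Order.one_le_iff_pos.2 (lt_of_le_of_lt zero_le h1)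
      have h3 := Order.add_one_le_of_lt (Order.height_strictMono hSp hfin)
      rw [← PrimeSpectrum.height_eq_orderHeight ps] at h3
      exact le_trans (add_le_add h1' le_rfl) h3
    exact hQt fun hQ' => (hcovEq ⟨P, hP.1.1⟩ ⟨Q, hQ'⟩ ps (hcov _ hPp hPne)
      (hcov _ hQp hQne)).symm.trans (hPt hP.1.1)

theorem isEquidim_of_hasSk_two {ω : Dual.D A} (hω : Dual.IsDualizing A ω) (hn : Dual.IsNormalized A ω)
    (n : ℕ) (hd : ringKrullDim A = n) (hS : LocCoh.HasSk 2 A A) : EGA4.IsEquidim A :=
  isEquidim_of_hasSk_two_of_covBy (coheight_eq_of_covBy hω hn) n hd hS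

end Groth.QGorEnd
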